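import Mathlib
import Groth.Agent.Lib.Lead.FrobDeg3

/-!
# Purely inseparable subextensions of a function field of one variable over a perfect field
(helper2)  If `K/k` is finitely generated of transcendence degree one over a perfect field and
`K/L` is finite purely inseparable, then `L = K^(q^n)`.
-/

set_option autoImplicit false
set_option backward.isDefEq.respectTransparency.types false
set_option synthInstance.maxHeartbeats 400000
set_option maxHeartbeats 4000000
set_option linter.style.haveILetI false
set_option linter.unusedSectionVars false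
set_option linter.unusedVariables false

universe u

namespace Groth.Agent.Helper2.PInsep

open Groth.Agent.Lead.FrobDeg

/-- the exponent of a finite purely inseparable extension is bounded by the degree -/
theorem pow_mem_range_of_finrank (L K : Type*) [Field L] [Field K] [Algebra L K] (q : ℕ)
    [hq : ExpChar L q] [IsPurelyInseparable L K] [FiniteDimensional L K] (n : ℕ)
    (hn : Module.finrank L K = q ^ n) (a : K) :
    a ^ q ^ n ∈ (algebraMap L K).range := by
  rcases hq with _ | ⟨hp⟩
  · exact IsPurelyInseparable.surjective_algebraMap_of_isSeparable L K _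
  · haveI : ExpChar L q := ExpChar.prime hp
    have h1 : IsPurelyInseparable.elemExponent L a ≤ n := by
      have h2 : (minpoly L a).natDegree = q ^ IsPurelyInseparable.elemExponent L a :=
        IsPurelyInseparable.minpoly_natDegree_eq' L q a
      have h3 : (minpoly L a).natDegree ≤ Module.finrank L K := minpoly.natDegree_le a
      rw [h2, hn] at h3
      exact (Nat.pow_le_pow_iff_right hp.one_lt).mp h3
    obtain ⟨y, hy⟩ := IsPurelyInseparable.elemExponent_def' L q a
    refine ⟨y ^ q ^ (n - IsPurelyInseparable.elemExponent L a), ?_⟩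
    rw [map_pow, hy, ← pow_mul, ← pow_add, Nat.add_sub_cancel' h1]

/-- a finite purely inseparable subextension of a function field of one variable over a perfect
field is the image of an iterated Frobenius -/
theorem exists_equiv_of_purelyInseparable (k L K : Type u) [Field k] [Field L] [Field K]
    [Algebra k L] [Algebra k K] [Algebra L K] [IsScalarTower k L K]
    (q : ℕ) [ExpChar k q] [PerfectRing k q]
    (hfg : (⊤ : IntermediateField k K).FG) (htr : Algebra.trdeg k K = 1)
    [IsPurelyInseparable L K] [FiniteDimensional L K] :
    ∃ (n : ℕ) (ε : L ≃+* K), (∀ l, (ε l) ^ q ^ n = algebraMap L K l) ∧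
      ∀ c : k, ε (algebraMap k L c) = algebraMap k K ((iterateFrobeniusEquiv k q n).symm c) := by
  haveI : ExpChar L q := expChar_of_injective_algebraMap (algebraMap k L).injective q
  haveI : ExpChar K q := expChar_of_injective_algebraMap (algebraMap k K).injective q
  obtain ⟨n, hn⟩ := IsPurelyInseparable.finrank_eq_pow (F := L) K q
  have hpow := pow_mem_range_of_finrank L K q n hn
  have hexp : IsPurelyInseparable.exponent L K ≤ n := by
    by_contra hlt
    push Not at hlt
    obtain ⟨a, ha⟩ := IsPurelyInseparable.exponent_min' q hlt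
    exact ha (hpow a)
  let ψ : K →+* L := IsPurelyInseparable.iterateFrobenius L K q hexp
  have hψ : ∀ a, algebraMap L K (ψ a) = a ^ q ^ n :=
    IsPurelyInseparable.algebraMap_iterateFrobenius L q hexp
  have hcomp : (algebraMap L K).comp ψ = iterateFrobenius K q n := by
    ext a
    rw [RingHom.comp_apply, hψ, iterateFrobenius_def]
  obtain ⟨d, hd1, hd2⟩ := fdeg_eq_pow_trdeg (k := k) (L := K) q n hfg
  have hd : d = 1 := by
    rw [htr] at hd1
    exact_mod_cast hd1.symm
  have h1 : hdeg (iterateFrobenius K q n) = q ^ n := by
    have h : fdeg q K n = (q ^ n) ^ d := hd2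
    rw [hd, pow_one] at h
    exact h
  have h2 : hdeg (algebraMap L K) = q ^ n := by rw [hdeg_algebraMap, hn]
  have h3 := hdeg_comp ψ (algebraMap L K)
  rw [hcomp, h1, h2] at h3
  have hqpos : 0 < q ^ n := expChar_pow_pos k q n
  have h4 : hdeg ψ = 1 := by
    have h : 1 * q ^ n = hdeg ψ * q ^ n := by rw [one_mul]; exact h3
    exact (Nat.eq_of_mul_eq_mul_right hqpos h).symm
  have hsurj : Function.Surjective ψ := by
    letI := ψ.toAlgebra
    have hfr : Module.finrank K L = 1 := h4
    have hbt := Subalgebra.bot_eq_top_of_finrank_eq_one hfr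
    intro l
    have hl : l ∈ (⊥ : Subalgebra K L) := by rw [hbt]; trivial
    obtain ⟨a, ha⟩ := Algebra.mem_bot.mp hl
    exact ⟨a, ha⟩
  let ε₀ : K ≃+* L := RingEquiv.ofBijective ψ ⟨ψ.injective, hsurj⟩
  have hε : ∀ l, (ε₀.symm l) ^ q ^ n = algebraMap L K l := by
    intro l
    obtain ⟨a, rfl⟩ := hsurj l
    have h : ε₀.symm (ψ a) = a := ε₀.symm_apply_apply a
    rw [h, hψ]
  refine ⟨n, ε₀.symm, hε, ?_⟩
  intro c
  have hinj : Function.Injective (iterateFrobenius K q n) := (iterateFrobenius K q n).injective
  apply hinj
  rw [iterateFrobenius_def, iterateFrobenius_def, hε, ← IsScalarTower.algebraMap_apply,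
    ← map_pow]
  congr 1
  exact ((iterateFrobeniusEquiv k q n).apply_symm_apply c).symm

end Groth.Agent.Helper2.PInsep
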