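import Mathlib
import Groth.Agent.Lib.Helper2.P1Luroth.Iso

/-!
# Proper normal curves with `k`-isomorphic function fields are `k`-isomorphic (helper2)
-/

set_option autoImplicit false
set_option backward.isDefEq.respectTransparency.types false
set_option synthInstance.maxHeartbeats 400000
set_option maxHeartbeats 4000000
set_option linter.style.haveILetI false
set_option linter.unusedSectionVars false
set_option linter.unusedVariables false

universe u
open CategoryTheory CategoryTheory.Limits AlgebraicGeometry IsLocalRing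

namespace Groth.Agent.Helper2.PInsep

open Groth.Agent.Lib.Helper4.RationalExt2 Groth.Agent.Helper2.P1Luroth

/-- proper normal integral curves over `k` whose function fields are isomorphic over `k` are
isomorphic over `k` -/
theorem iso_of_functionField_equiv (k : Type u) [Field k] {X Y : Scheme.{u}}
    [IsIntegral X] [IsIntegral Y]
    (p : X ⟶ Spec (CommRingCat.of k)) (r : Y ⟶ Spec (CommRingCat.of k)) [IsProper p] [IsProper r]
    (hX1 : ∀ x : X, IsClosed ({x} : Set X) → ringKrullDim (X.presheaf.stalk x) = 1)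
    (hY1 : ∀ y : Y, IsClosed ({y} : Set Y) → ringKrullDim (Y.presheaf.stalk y) = 1)
    (hnX : ∀ x : X, IsDomain (X.presheaf.stalk x) ∧ IsIntegrallyClosed (X.presheaf.stalk x))
    (hnY : ∀ y : Y, IsDomain (Y.presheaf.stalk y) ∧ IsIntegrallyClosed (Y.presheaf.stalk y))
    (ε : Y.presheaf.stalk (genericPoint Y) ≃+* X.presheaf.stalk (genericPoint X))
    (hε : ε.toRingHom.comp (@Curv2.stalkMap k _ Y ⟨r⟩ (genericPoint Y)) =
      @Curv2.stalkMap k _ X ⟨p⟩ (genericPoint X)) :
    ∃ i : X ≅ Y, i.hom ≫ r = p := by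
  letI ovX : X.Over (Spec (CommRingCat.of k)) := ⟨p⟩
  letI ovY : Y.Over (Spec (CommRingCat.of k)) := ⟨r⟩
  haveI : IsProper (X ↘ Spec (CommRingCat.of k)) := ‹IsProper p›
  haveI : IsProper (Y ↘ Spec (CommRingCat.of k)) := ‹IsProper r›
  have hε' : ε.symm.toRingHom.comp (Curv2.stalkMap k X (genericPoint X)) =
      Curv2.stalkMap k Y (genericPoint Y) := by
    ext c
    show ε.symm _ = _
    rw [RingEquiv.symm_apply_eq]
    exact (congrArg (fun g => g c) hε).symm
  obtain ⟨u, ⟨hu1, hu, hu2⟩, -⟩ := S4445_main k X Y hX1 hnX ε.toRingHom hε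
  obtain ⟨v, ⟨hv1, hv, hv2⟩, -⟩ := S4445_main k Y X hY1 hnY ε.symm.toRingHom hε'
  have hu3 := fromSpecStalk_comp_of_generic u (CommRingCat.ofHom ε.toRingHom) hu
    (CommRingCat.hom_ext hu2)
  have hv3 := fromSpecStalk_comp_of_generic v (CommRingCat.ofHom ε.symm.toRingHom) hv
    (CommRingCat.hom_ext hv2)
  have hab1 : CommRingCat.ofHom ε.symm.toRingHom ≫ CommRingCat.ofHom ε.toRingHom = 𝟙 _ := by
    apply CommRingCat.hom_ext
    apply RingHom.ext
    intro z
    exact ε.apply_symm_apply z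
  have hab2 : CommRingCat.ofHom ε.toRingHom ≫ CommRingCat.ofHom ε.symm.toRingHom = 𝟙 _ := by
    apply CommRingCat.hom_ext
    apply RingHom.ext
    intro z
    exact ε.symm_apply_apply z
  have huv : u ≫ v = 𝟙 X := comp_eq_id_of_generic k p r u v hu1 hv1 _ _ hu3 hv3 hab1
  have hvu : v ≫ u = 𝟙 Y := comp_eq_id_of_generic k r p v u hv1 hu1 _ _ hv3 hu3 hab2
  exact ⟨⟨u, v, huv, hvu⟩, hu1⟩

/-- twisting the structure morphism by an endomorphism of the base field -/
theorem stalkMap_twist (k : Type u) [Field k] {X : Scheme.{u}} (p : X ⟶ Spec (CommRingCat.of k))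
    (σ : k →+* k) (x : X) :
    @Curv2.stalkMap k _ X ⟨p ≫ Spec.map (CommRingCat.ofHom σ)⟩ x =
      (@Curv2.stalkMap k _ X ⟨p⟩ x).comp σ := by
  have h1 := @fromSpecStalk_over k _ X ⟨p ≫ Spec.map (CommRingCat.ofHom σ)⟩ x
  have h2 := @fromSpecStalk_over k _ X ⟨p⟩ x
  have h3 : Spec.map (CommRingCat.ofHom
      (@Curv2.stalkMap k _ X ⟨p ≫ Spec.map (CommRingCat.ofHom σ)⟩ x)) =
      Spec.map (CommRingCat.ofHom ((@Curv2.stalkMap k _ X ⟨p⟩ x).comp σ)) := by
    rw [← h1]
    show X.fromSpecStalk x ≫ (p ≫ Spec.map (CommRingCat.ofHom σ)) = _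
    rw [← Category.assoc]
    have h2' : X.fromSpecStalk x ≫ p = Spec.map (CommRingCat.ofHom (@Curv2.stalkMap k _ X ⟨p⟩ x)) :=
      h2
    rw [h2', ← Spec.map_comp]
    rfl
  exact congrArg CommRingCat.Hom.hom (Spec.map_injective h3)

end Groth.Agent.Helper2.PInsep
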