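import Mathlib
import Groth.Agent.Lib.Helper2.PInsep.Alg
import Groth.Agent.Lib.Helper2.PInsep.CurveIso
import Groth.Agent.Lib.Helper2.SepHyp.Main
import Groth.Agent.Lib.Helper4.DimFT4
import Groth.Agent.Lib.Lead.FrobDeg5

/-!
# Purely inseparable finite morphisms of regular proper curves over an algebraically closed field
(S11333) (helper2)
-/

set_option autoImplicit false
set_option backward.isDefEq.respectTransparency.types false
set_option synthInstance.maxHeartbeats 400000
set_option maxHeartbeats 4000000
set_option linter.style.haveILetI false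
set_option linter.unusedSectionVars false
set_option linter.unusedVariables false

universe u
open CategoryTheory CategoryTheory.Limits AlgebraicGeometry IsLocalRing

namespace Groth.Agent.Helper2.PInsep

open Groth.Agent.Lib.Helper4.RationalExt2 Groth.Agent.Helper2.P1Luroth
open Groth.Agent.Lib.Helper4.DimFT4 Groth.Agent.Lead.FrobDeg

attribute [local instance] Curv2.stalkAlgebra Curv2.resAlgebra

/-- the function field of an integral curve over `k` has transcendence degree one -/
theorem trdeg_stalk_genericPoint (k : Type u) [Field k] (X : Scheme.{u})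
    [X.Over (Spec (CommRingCat.of k))] [LocallyOfFiniteType (X ↘ Spec (CommRingCat.of k))]
    [IsIntegral X] (hdim : topologicalKrullDim X = 1) :
    Algebra.trdeg k (X.presheaf.stalk (genericPoint X)) = 1 := by
  obtain ⟨W, hW, hξW, -⟩ := exists_isAffineOpen_mem_and_subset (U := (⊤ : X.Opens))
    (x := genericPoint X) trivial
  obtain ⟨n, h1, h2⟩ := exists_dim_affineOpen_eq_trdeg k X hW hξW
  have h3 := S1619_main k X n h1
  have hn : n = 1 := by
    rw [hdim] at h3
    exact_mod_cast h3.symm
  rw [hn] at h1
  have hbij := residue_genericPoint_bijective (Y := X)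
  let e : (X.presheaf.stalk (genericPoint X)) ≃ₐ[k] (X.residueField (genericPoint X)) :=
    AlgEquiv.ofBijective
      { (X.residue (genericPoint X)).hom with commutes' := fun c => rfl } hbij
  rw [e.trdeg_eq]
  exact_mod_cast h1

/-- regular local rings of dimension at most one are normal -/
theorem isNormal_of_regular (X : Scheme.{u}) [IsIntegral X] (hdim : topologicalKrullDim X = 1)
    (hreg : ∀ x : X, IsRegularLocalRing (X.presheaf.stalk x)) (x : X) :
    IsDomain (X.presheaf.stalk x) ∧ IsIntegrallyClosed (X.presheaf.stalk x) := by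
  haveI := hreg x
  haveI : ValuationRing (X.presheaf.stalk x) :=
    Groth.Agent.Helper1.VB5.valuationRing_of_regular _
      (Groth.Agent.Helper1.VB5.ringKrullDim_stalk_le hdim.le x)
  exact ⟨inferInstance, inferInstance⟩

theorem S11333_main (k : Type u) [Field k] [IsAlgClosed k] (X : Scheme.{u})
    [X.Over (Spec (CommRingCat.of k))]
    [IsIntegral X] [IsProper (X ↘ (Spec (CommRingCat.of k)))] (hdimX : topologicalKrullDim X = 1)
    (hregX : ∀ x : X, IsRegularLocalRing (X.presheaf.stalk x))
    (Y : Scheme.{u}) [Y.Over (Spec (CommRingCat.of k))]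
    [IsIntegral Y] [IsProper (Y ↘ (Spec (CommRingCat.of k)))] (hdimY : topologicalKrullDim Y = 1)
    (hregY : ∀ x : Y, IsRegularLocalRing (Y.presheaf.stalk x))
    (f : X ⟶ Y) [IsFinite f]
    (hf : f ≫ (Y ↘ (Spec (CommRingCat.of k))) = X ↘ (Spec (CommRingCat.of k)))
    (e : f (genericPoint X) = genericPoint Y) :
    letI := ((Y.presheaf.stalkSpecializes (specializes_of_eq e) ≫
      f.stalkMap (genericPoint X)).hom).toAlgebra
    IsPurelyInseparable Y.functionField X.functionField → Nonempty (X ≅ Y) := by
  letI algLK : Algebra ↑Y.functionField ↑X.functionField :=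
    ((Y.presheaf.stalkSpecializes (specializes_of_eq e) ≫
      f.stalkMap (genericPoint X)).hom).toAlgebra
  intro hpi
  let ιc : Y.presheaf.stalk (genericPoint Y) ⟶ X.presheaf.stalk (genericPoint X) :=
    Y.presheaf.stalkSpecializes (specializes_of_eq e) ≫ f.stalkMap (genericPoint X)
  have hι := fromSpecStalk_comp_of_generic f ιc e rfl
  have hιρ : ιc.hom.comp (Curv2.stalkMap k Y (genericPoint Y)) =
      Curv2.stalkMap k X (genericPoint X) := stalkMap_comp_of_over k f hf ιc hι
  haveI htower : IsScalarTower k ↑Y.functionField ↑X.functionField :=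
    IsScalarTower.of_algebraMap_eq (fun c => (congrArg (fun g => g c) hιρ).symm)
  obtain ⟨q, hq⟩ := ExpChar.exists k
  haveI : PerfectRing k q := inferInstance
  haveI : LocallyOfFiniteType (X ↘ Spec (CommRingCat.of k)) := inferInstance
  haveI hess : Algebra.EssFiniteType k ↑X.functionField :=
    Groth.Agent.Helper2.SepHyp.essFiniteType_stalk k X (genericPoint X)
  have hfg : (⊤ : IntermediateField k ↑X.functionField).FG := IntermediateField.fg_top k _
  have htr : Algebra.trdeg k ↑X.functionField = 1 := trdeg_stalk_genericPoint k X hdimX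
  haveI hessL : Algebra.EssFiniteType ↑Y.functionField ↑X.functionField :=
    Algebra.EssFiniteType.of_comp k ↑Y.functionField ↑X.functionField
  haveI : Algebra.IsAlgebraic ↑Y.functionField ↑X.functionField := inferInstance
  haveI hfin : Module.Finite ↑Y.functionField ↑X.functionField :=
    Algebra.finite_of_essFiniteType_of_isAlgebraic
  obtain ⟨n, ε, hε1, hε2⟩ := exists_equiv_of_purelyInseparable k ↑Y.functionField
    ↑X.functionField q hfg htr
  -- the twisted structure
  let σe : k ≃+* k := (iterateFrobeniusEquiv k q n).symm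
  let σ : k →+* k := σe.toRingHom
  haveI : IsIso (CommRingCat.ofHom σ) :=
    (ConcreteCategory.isIso_iff_bijective _).mpr σe.bijective
  haveI : IsIso (Spec.map (CommRingCat.ofHom σ)) := inferInstance
  let p' : X ⟶ Spec (CommRingCat.of k) :=
    (X ↘ Spec (CommRingCat.of k)) ≫ Spec.map (CommRingCat.ofHom σ)
  haveI : IsProper p' := inferInstance
  have hX1 : ∀ x : X, IsClosed ({x} : Set X) → ringKrullDim (X.presheaf.stalk x) = 1 :=
    fun x hx => Groth.Agent.Helper1.P1Iso.ringKrullDim_stalk_eq_one X hdimX x hx
  have hY1 : ∀ y : Y, IsClosed ({y} : Set Y) → ringKrullDim (Y.presheaf.stalk y) = 1 :=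
    fun y hy => Groth.Agent.Helper1.P1Iso.ringKrullDim_stalk_eq_one Y hdimY y hy
  have hε : ε.toRingHom.comp (@Curv2.stalkMap k _ Y ⟨Y ↘ Spec (CommRingCat.of k)⟩ (genericPoint Y)) =
      @Curv2.stalkMap k _ X ⟨p'⟩ (genericPoint X) := by
    rw [stalkMap_twist k (X ↘ Spec (CommRingCat.of k)) σ (genericPoint X)]
    ext c
    exact hε2 c
  obtain ⟨i, -⟩ := iso_of_functionField_equiv k p' (Y ↘ Spec (CommRingCat.of k)) hX1 hY1
    (isNormal_of_regular X hdimX hregX) (isNormal_of_regular Y hdimY hregY) ε hε
  exact ⟨i⟩

end Groth.Agent.Helper2.PInsep
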